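import Groth.Agent.S2005
import Groth.Agent.Lib.AlgSpace.LqfDescent
import Groth.Agent.Lib.AlgSpace.Points
import Mathlib.RingTheory.Flat.Basic
import Mathlib.AlgebraicGeometry.Morphisms.Flat
import Mathlib.AlgebraicGeometry.Morphisms.Etale

/-!
# Glueability is etale local
-/

universe u

set_option backward.isDefEq.respectTransparency.types false

open CategoryTheory CategoryTheory.Limits AlgebraicGeometry TensorProduct

namespace Groth.Agent.Glueable27

/-- For glueing pairs: no nonzero torsion element dies in the tensor product. -/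
def TorInj (R R' : Type u) [CommRing R] [CommRing R'] [Algebra R R'] (f : R) (A : Type u) [AddCommGroup A]
    [Module R A] : Prop :=
  ∀ m : A, (∃ n : ℕ, f ^ n • m = 0) → (1 : R') ⊗ₜ[R] m = 0 → m = 0

variable {R R' : Type u} [CommRing R] [CommRing R'] [Algebra R R'] {f : R}

theorem isGlueable_iff_torInj (h : EtGlue.IsGlueingPair R R' f) (A : Type u) [AddCommGroup A] [Module R A] :
    EtGlue.IsGlueable R R' f A ↔ TorInj R R' f A :=
  (S2005.result R R' f h.1 A).2 h

/-- Flat algebras inherit the torsion condition. -/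
theorem torInj_of_flat {A B : Type u} [CommRing A] [CommRing B] [Algebra R A] [Algebra R B] [Algebra A B]
    [IsScalarTower R A B] [Module.Flat A B] (hA : TorInj R R' f A) : TorInj R R' f B := by
  rintro b ⟨n, hn⟩ hb
  let x : A ⊗[R] R' := (1 : A) ⊗ₜ[R] (1 : R')
  let t : A := algebraMap R A (f ^ n)
  let ψ : A →ₗ[A] (A ⊗[R] R') × A := LinearMap.toSpanSingleton A _ (x, t)
  have hψ : Function.Injective ψ := by
    rw [← LinearMap.ker_eq_bot, LinearMap.ker_eq_bot']
    intro a ha
    have h1 : a • x = 0 := congrArg Prod.fst ha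
    have h2 : a • t = 0 := congrArg Prod.snd ha
    refine hA a ⟨n, by rw [Algebra.smul_def, mul_comm]; exact h2⟩ ?_
    rw [TensorProduct.smul_tmul', smul_eq_mul, mul_one] at h1
    simpa using congrArg (TensorProduct.comm R A R') h1
  have h : ψ.lTensor B (b ⊗ₜ[A] (1 : A)) = 0 := by
    have hx : b ⊗ₜ[A] x = 0 := by
      refine (AlgebraTensorModule.cancelBaseChange R A B B R').injective ?_
      rw [map_zero, AlgebraTensorModule.cancelBaseChange_tmul, one_smul]
      simpa using congrArg (TensorProduct.comm R R' B) hb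
    have hs : ψ (1 : A) = LinearMap.inl A _ A x + t • LinearMap.inr A (A ⊗[R] R') A 1 := by
      ext <;> simp [ψ]
    rw [LinearMap.lTensor_tmul, hs, TensorProduct.tmul_add, ← LinearMap.lTensor_tmul, hx, map_zero, zero_add,
      ← TensorProduct.smul_tmul, algebraMap_smul, hn, TensorProduct.zero_tmul]
  have h0 : b ⊗ₜ[A] (1 : A) = 0 := Module.Flat.lTensor_preserves_injective_linearMap ψ hψ (h.trans (map_zero _).symm)
  simpa using congrArg (TensorProduct.rid A B) h0

/-- The torsion condition is detected on a flat cover. -/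
theorem torInj_of_cover {A : Type u} [CommRing A] [Algebra R A]
    (h : ∀ p : PrimeSpectrum A, ∃ (B : Type u) (_ : CommRing B) (_ : Algebra R B) (φ : A →ₐ[R] B),
      φ.toRingHom.Flat ∧ p ∈ Set.range (PrimeSpectrum.comap φ.toRingHom) ∧ TorInj R R' f B) :
    TorInj R R' f A := by
  rintro m ⟨n, hn⟩ hm
  by_contra hne
  obtain ⟨p, hp, hle⟩ := Ideal.exists_le_maximal (LinearMap.ker (LinearMap.toSpanSingleton A A m)) (fun h1 => hne (by
    have := (Ideal.eq_top_iff_one _).1 h1
    simpa using this))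
  obtain ⟨B, _, _, φ, hφ, ⟨q, hq⟩, hB⟩ := h ⟨p, hp.isPrime⟩
  letI : Algebra A B := φ.toRingHom.toAlgebra
  haveI : Module.Flat A B := hφ
  have hmB : φ m = 0 := hB _ ⟨n, by rw [← map_smul, hn, map_zero]⟩ (by
    simpa using congrArg (LinearMap.lTensor R' φ.toLinearMap) hm)
  have he : Function.Exact (LinearMap.ker (LinearMap.toSpanSingleton A A m)).subtype (LinearMap.toSpanSingleton A A m) :=
    LinearMap.exact_subtype_ker_map _
  obtain ⟨y, hy⟩ := (Module.Flat.lTensor_exact B he ((1 : B) ⊗ₜ[A] (1 : A))).1 (by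
    refine (TensorProduct.rid A B).injective ?_
    rw [LinearMap.lTensor_tmul, LinearMap.toSpanSingleton_apply, one_smul, TensorProduct.rid_tmul, map_zero,
      Algebra.smul_def, mul_one]
    exact hmB)
  have hmem : ∀ z, TensorProduct.rid A B ((LinearMap.ker (LinearMap.toSpanSingleton A A m)).subtype.lTensor B z) ∈
      q.asIdeal := by
    intro z
    induction z with
    | zero => simp
    | add z₁ z₂ h₁ h₂ => rw [map_add, map_add]; exact add_mem h₁ h₂
    | tmul c a =>
      rw [LinearMap.lTensor_tmul, TensorProduct.rid_tmul, Algebra.smul_def]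
      refine q.asIdeal.mul_mem_right _ ?_
      show a.1 ∈ (PrimeSpectrum.comap φ.toRingHom q).asIdeal
      rw [hq]
      exact hle a.2
  have h1 := hmem y
  rw [hy, TensorProduct.rid_tmul, one_smul] at h1
  exact q.isPrime.ne_top ((Ideal.eq_top_iff_one _).2 h1)

open AlgSp Groth.Agent.AlgSpace

/-- The spectrum of an algebra as an object over the base ring. -/
noncomputable abbrev specOver (R : Type u) [CommRing R] (A : Type u) [CommRing A] [Algebra R A] :
    Over (Spec (CommRingCat.of R)) :=
  Over.mk (Spec.map (CommRingCat.ofHom (algebraMap R A)))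

theorem exists_affine_cover {Y : Space (Spec (CommRingCat.of R))} :
    ∃ (ι : Type u) (A : ι → Type u) (_ : ∀ k, CommRing (A k)) (_ : ∀ k, Algebra R (A k))
      (g : ∀ k, (yon (Spec (CommRingCat.of R))).obj (specOver R (A k)) ⟶ Y.obj),
      (∀ k, RepWith @Etale (g k)) ∧ (∀ y : Points Y.obj, ∃ k, y ∈ Set.range (Points.map (g k))) := by
  obtain ⟨U, p, hpe, hps⟩ := Y.property.atlas
  let ψ : ∀ O : U.left.affineOpens, R →+* Γ(U.left, O.1) := fun O => (Spec.preimage (O.2.fromSpec ≫ U.hom)).hom
  letI inst : ∀ O : U.left.affineOpens, Algebra R Γ(U.left, O.1) := fun O => (ψ O).toAlgebra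
  let c : ∀ O : U.left.affineOpens, specOver R Γ(U.left, O.1) ⟶ U := fun O => Over.homMk O.2.fromSpec (by
    change O.2.fromSpec ≫ U.hom = Spec.map (CommRingCat.ofHom (algebraMap R Γ(U.left, O.1)))
    exact (Spec.map_preimage _).symm)
  refine ⟨U.left.affineOpens, fun O => Γ(U.left, O.1), inferInstance, inst, fun O => (yon _).map (c O) ≫ p,
    fun O => repWith_comp ((repWith_yon_map_iff @Etale _).2 (inferInstanceAs (Etale O.2.fromSpec))) hpe, fun y => ?_⟩
  obtain ⟨u, rfl⟩ := surjective_ofPt hps y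
  obtain ⟨_, ⟨O, hO, rfl⟩, huO, -⟩ :=
    U.left.isBasis_affineOpens.exists_subset_of_mem_open (Set.mem_univ u) isOpen_univ
  obtain ⟨v, hv⟩ : u ∈ Set.range hO.fromSpec := hO.range_fromSpec.symm ▸ huO
  refine ⟨⟨O, hO⟩, Points.ofScheme _ v, ?_⟩
  rw [← Points.ofPt_eq_map_ofScheme, AlgSpDecent.ofPt_map_comp]
  exact congrArg _ hv

/-- An affine scheme etale over a space with a glueable etale affine cover is glueable. -/
theorem torInj_of_etale {Y : Space (Spec (CommRingCat.of R))} {ι : Type u} (A : ι → Type u) [∀ k, CommRing (A k)]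
    [∀ k, Algebra R (A k)] (g : ∀ k, (yon (Spec (CommRingCat.of R))).obj (specOver R (A k)) ⟶ Y.obj)
    (hg : ∀ k, RepWith @Etale (g k)) (hcov : ∀ y : Points Y.obj, ∃ k, y ∈ Set.range (Points.map (g k)))
    (hA : ∀ k, TorInj R R' f (A k)) {C : Type u} [CommRing C] [Algebra R C]
    (c : (yon (Spec (CommRingCat.of R))).obj (specOver R C) ⟶ Y.obj) (hc : RepWith @Etale c) :
    TorInj R R' f C := by
  refine torInj_of_cover fun p => ?_
  obtain ⟨k, z, hz⟩ := hcov (Points.ofPt c p)
  have sq := (hg k).1.isPullback c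
  obtain ⟨α, hα⟩ := (yon _).map_surjective ((hg k).1.fst c)
  rw [← hα] at sq
  have : Etale ((hg k).1.snd c).left := (hg k).2 c _ _ sq
  have : Etale α.left := hc.2 (g k) _ _ sq.flip
  obtain ⟨w, -, hw⟩ := exists_pt_of_isPullback sq hz
  let W := (hg k).1.pullback c
  obtain ⟨_, ⟨O, hO, rfl⟩, hwO, -⟩ :=
    W.left.isBasis_affineOpens.exists_subset_of_mem_open (Set.mem_univ w) isOpen_univ
  obtain ⟨v, hv⟩ : w ∈ Set.range hO.fromSpec := hO.range_fromSpec.symm ▸ hwO
  let φC := Spec.preimage (R := CommRingCat.of C) (hO.fromSpec ≫ ((hg k).1.snd c).left)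
  let φA := Spec.preimage (R := CommRingCat.of (A k)) (hO.fromSpec ≫ α.left)
  let ρ := Spec.preimage (R := CommRingCat.of R) (hO.fromSpec ≫ W.hom)
  letI : Algebra R Γ(W.left, O) := ρ.hom.toAlgebra
  have hC : CommRingCat.ofHom (algebraMap R C) ≫ φC = ρ := Spec.map_injective (by
    rw [Spec.map_comp, Spec.map_preimage, Spec.map_preimage, Category.assoc]
    exact congrArg (hO.fromSpec ≫ ·) (Over.w ((hg k).1.snd c)))
  have hA' : CommRingCat.ofHom (algebraMap R (A k)) ≫ φA = ρ := Spec.map_injective (by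
    rw [Spec.map_comp, Spec.map_preimage, Spec.map_preimage, Category.assoc]
    exact congrArg (hO.fromSpec ≫ ·) (Over.w α))
  letI : Algebra (A k) Γ(W.left, O) := φA.hom.toAlgebra
  haveI : IsScalarTower R (A k) Γ(W.left, O) :=
    IsScalarTower.of_algebraMap_eq fun r => (ConcreteCategory.congr_hom hA' r).symm
  haveI : Module.Flat (A k) Γ(W.left, O) := (HasRingHomProperty.Spec_iff (P := @Flat) (φ := φA)).1
    (by rw [Spec.map_preimage]; infer_instance)
  refine ⟨Γ(W.left, O), inferInstance, inferInstance,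
    { φC.hom with commutes' := fun r => ConcreteCategory.congr_hom hC r }, ?_, ⟨v, ?_⟩, torInj_of_flat (hA k)⟩
  · exact (HasRingHomProperty.Spec_iff (P := @Flat) (φ := φC)).1 (by rw [Spec.map_preimage]; infer_instance)
  · show (Spec.map φC) v = p
    rw [Spec.map_preimage, Scheme.Hom.comp_apply, hv, hw]

end Groth.Agent.Glueable27
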